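import Cfsg.Agent.Pass.Exc

/-! Class number estimates for rank three linear groups. -/

set_option autoImplicit false

namespace Cfsg.R3

open Module Pass

universe u v

variable {H : Type u} [Group H] [Finite H]

theorem classes_mul_add_le (K : Subgroup H) :
    Nat.card (ConjClasses K) * Nat.card K + 2 * (Nat.card H - Nat.card K) ≤
      Nat.card (ConjClasses H) * Nat.card H := by
  rw [← card_comm_eq_card_conjClasses_mul_card, ← card_comm_eq_card_conjClasses_mul_card]
  let f : {q : K × K // Commute q.1 q.2} ⊕ ((K : Set H)ᶜ : Set H) ⊕ ((K : Set H)ᶜ : Set H) →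
      {q : H × H // Commute q.1 q.2} := fun x => match x with
    | .inl q => ⟨(q.1.1, q.1.2), q.2.map K.subtype⟩
    | .inr (.inl a) => ⟨(a, 1), Commute.one_right _⟩
    | .inr (.inr a) => ⟨(1, a), Commute.one_left _⟩
  have hf : Function.Injective f := by
    rintro (⟨⟨a, b⟩, h⟩ | a | a) (⟨⟨c, d⟩, h'⟩ | c | c) e <;>
      replace e := Prod.ext_iff.1 (congrArg Subtype.val e) <;> simp only [f] at e
    · rw [Sum.inl.injEq, Subtype.mk.injEq, Prod.mk.injEq]
      exact ⟨Subtype.ext e.1, Subtype.ext e.2⟩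
    · exact absurd (e.1 ▸ a.2) c.2
    · exact absurd (e.2 ▸ b.2) c.2
    · exact absurd (e.1 ▸ c.2) a.2
    · rw [Subtype.ext e.1]
    · exact absurd (e.1 ▸ K.one_mem) a.2
    · exact absurd (e.2 ▸ d.2) a.2
    · exact absurd (e.1 ▸ K.one_mem) c.2
    · rw [Subtype.ext e.2]
  have h1 := Nat.card_le_card_of_injective f hf
  rw [Nat.card_sum, Nat.card_sum] at h1
  have h2 : Nat.card ((K : Set H)ᶜ : Set H) = Nat.card H - Nat.card K := Set.ncard_compl _
  omega

theorem classes_le_index_mul (K : Subgroup H) :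
    Nat.card (ConjClasses K) ≤ K.index * Nat.card (ConjClasses H) := by
  have h1 := classes_mul_add_le K
  rw [← K.index_mul_card] at h1
  refine Nat.le_of_mul_le_mul_right ?_ (Nat.card_pos (α := K))
  nlinarith [Nat.zero_le (K.index * Nat.card K - Nat.card K)]

theorem classes_add_two_le {K : Subgroup H} (h : K.index = 2) :
    Nat.card (ConjClasses K) + 2 ≤ 2 * Nat.card (ConjClasses H) := by
  have h1 := classes_mul_add_le K
  rw [← K.index_mul_card, h, show 2 * Nat.card K - Nat.card K = Nat.card K by omega] at h1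
  refine Nat.le_of_mul_le_mul_right ?_ (Nat.card_pos (α := K))
  nlinarith

omit [Finite H] in
theorem classes_of_comm (h : ∀ a b : H, a * b = b * a) : Nat.card (ConjClasses H) = Nat.card H := by
  let _ : CommGroup H := ⟨h⟩
  exact (Nat.card_congr ConjClasses.mkEquiv).symm

theorem card_le_index_mul {A : Subgroup H} (h : ∀ a ∈ A, ∀ b ∈ A, Commute a b) :
    Nat.card A ≤ A.index * Nat.card (ConjClasses H) :=
  (classes_of_comm fun a b : A => Subtype.ext (h a a.2 b b.2).eq).ge.trans (classes_le_index_mul A)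

omit [Finite H] in
theorem orderOf_eq_of_isConj {a b : H} (h : IsConj a b) : orderOf b = orderOf a := by
  obtain ⟨c, rfl⟩ := isConj_iff.1 h
  exact (MulAut.conj c).orderOf_eq _

theorem card_mul_le_classes {Z : Subgroup H} (hZ : Z ≤ Subgroup.center H) (D : Finset ℕ)
    (hD : ∀ d ∈ D, (∃ x : H, orderOf x = d) ∧ d.Coprime (Nat.card Z)) :
    D.card * Nat.card Z ≤ Nat.card (ConjClasses H) := by
  choose x hx using fun d : D => (hD d d.2).1
  have hc : ∀ (d : D) (z : Z), Commute (x d) z := fun d z =>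
    Subgroup.mem_center_iff.1 (hZ z.2) _
  have h1 : ∀ (d : D) (z : Z), orderOf ((x d * z) ^ Nat.card Z) = d := fun d z => by
    rw [(hc d z).mul_pow, ← Subgroup.coe_pow, pow_card_eq_one', Subgroup.coe_one, mul_one,
      Nat.Coprime.orderOf_pow (by rw [hx]; exact (hD d d.2).2), hx]
  have h2 : ∀ (d : D) (z : Z), (x d * z) ^ (d : ℕ) = z ^ (d : ℕ) := fun d z => by
    rw [(hc d z).mul_pow, ← hx d, pow_orderOf_eq_one, one_mul]
  rw [← Nat.card_eq_finsetCard, ← Nat.card_prod]
  refine Nat.card_le_card_of_injective (fun q : D × Z => ConjClasses.mk (x q.1 * q.2)) ?_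
  rintro ⟨d, z⟩ ⟨d', z'⟩ h
  replace h := ConjClasses.mk_eq_mk_iff_isConj.1 h
  obtain rfl : d = d' := Subtype.ext
    ((h1 d z).symm.trans ((orderOf_eq_of_isConj (h.pow _)).symm.trans (h1 d' z')))
  obtain ⟨c, hc'⟩ := isConj_iff.1 (h.pow d)
  rw [h2, h2, Subgroup.mem_center_iff.1 (pow_mem (hZ z.2) _) c, mul_inv_cancel_right] at hc'
  rw [Prod.mk.injEq]
  exact ⟨rfl, (powCoprime (hD d d.2).2.symm).injective (Subtype.ext hc')⟩

theorem card_le_classes (D : Finset ℕ) (hD : ∀ d ∈ D, ∃ x : H, orderOf x = d) :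
    D.card ≤ Nat.card (ConjClasses H) := by
  simpa using card_mul_le_classes (Z := ⊥) bot_le D fun d hd => ⟨hD d hd, by simp⟩

theorem card_add_two_le_classes (D : Finset ℕ) (x : ℕ → H) (hx : ∀ d ∈ D, orderOf (x d) = d)
    {a b : H} (ha : ¬ IsConj (x (orderOf a)) a) (hb : ¬ IsConj (x (orderOf b)) b)
    (hab : orderOf a ≠ orderOf b) : D.card + 2 ≤ Nat.card (ConjClasses H) := by
  classical
  have h1 : ∀ c : H, ¬ IsConj (x (orderOf c)) c →
      ConjClasses.mk c ∉ D.image fun d => ConjClasses.mk (x d) := fun c hc h => by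
    obtain ⟨d, hd, e⟩ := Finset.mem_image.1 h
    replace e := ConjClasses.mk_eq_mk_iff_isConj.1 e
    exact hc (by rwa [orderOf_eq_of_isConj e, hx d hd])
  have h2 := card_le_card_classes (insert (ConjClasses.mk a) (insert (ConjClasses.mk b)
    (D.image fun d => ConjClasses.mk (x d))))
  rwa [Finset.card_insert_of_notMem, Finset.card_insert_of_notMem (h1 b hb),
    Finset.card_image_of_injOn] at h2
  · intro d hd e he h
    rw [← hx d hd, ← hx e he, orderOf_eq_of_isConj (ConjClasses.mk_eq_mk_iff_isConj.1 h)]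
  · rw [Finset.mem_insert, not_or]
    exact ⟨fun h => hab (orderOf_eq_of_isConj (ConjClasses.mk_eq_mk_iff_isConj.1 h)).symm, h1 a ha⟩

/-- the alternatives of Dickson's theorem with their class numbers -/
def Dickson (K : Type u) [Group K] : Prop :=
  (∃ A : Subgroup K, (∀ a ∈ A, ∀ b ∈ A, Commute a b) ∧ A.index ≤ 2) ∨
  ((Subgroup.center K).index = 12 ∧
    5 * Nat.card (Subgroup.center K) ≤ 2 * Nat.card (ConjClasses K)) ∨
  ((Subgroup.center K).index = 24 ∧
    7 * Nat.card (Subgroup.center K) ≤ 2 * Nat.card (ConjClasses K)) ∨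
  ((Subgroup.center K).index = 60 ∧
    9 * Nat.card (Subgroup.center K) ≤ 2 * Nat.card (ConjClasses K))

theorem dickson_of_mat {F : Type*} [Field F] (X : H →* Matrix (Fin 2) (Fin 2) F)
    (hX : Function.Injective X) (h2 : (2 : F) ≠ 0) (hK : (Nat.card H : F) ≠ 0) : Dickson H := by
  have hD := Dk.of_mat X hX h2 hK
  have hsum := sum_cnt_le (K := H)
  have h1 := card_center_le_cnt (K := H)
  refine (dickson_mat2 X hX h2 hK).imp id (Or.imp (fun hi => ⟨hi, ?_⟩)
    (Or.imp (fun hi => ⟨hi, ?_⟩) fun hi => ⟨hi, ?_⟩))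
  · have h3 := hD.prime_le_cnt Nat.prime_two (by rw [hi]; norm_num)
    have h4 := hD.prime_le_cnt Nat.prime_three (by rw [hi]; norm_num)
    omega
  · have h3 := hD.four_le_cnt (by rw [hi]; norm_num)
    have h4 := hD.prime_le_cnt Nat.prime_three (by rw [hi]; norm_num)
    omega
  · have h3 := hD.prime_le_cnt Nat.prime_two (by rw [hi]; norm_num)
    have h4 := hD.prime_le_cnt Nat.prime_three (by rw [hi]; norm_num)
    have h5 := hD.prime_le_cnt Nat.prime_five (by rw [hi]; norm_num)
    omega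

theorem card_le_four_mul {A : Subgroup H} (h : ∀ a ∈ A, ∀ b ∈ A, Commute a b) (hi : A.index ≤ 2) :
    Nat.card H ≤ 4 * Nat.card (ConjClasses H) := by
  have h1 := card_le_index_mul h
  rw [← A.index_mul_card]
  calc A.index * Nat.card A ≤ 2 * (2 * Nat.card (ConjClasses H)) :=
        Nat.mul_le_mul hi (h1.trans (Nat.mul_le_mul_right _ hi))
    _ = _ := by ring

theorem Dickson.card_le (h : Dickson H) : Nat.card H ≤ 14 * Nat.card (ConjClasses H) := by
  have h1 := (Subgroup.center H).index_mul_card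
  rcases h with ⟨A, h, hi⟩ | ⟨hi, h⟩ | ⟨hi, h⟩ | ⟨hi, h⟩
  · have := card_le_four_mul h hi
    omega
  all_goals
    rw [hi] at h1
    omega

theorem Dickson.exists_comm (h : Dickson H) (h2 : IsPGroup 2 H) :
    ∃ A : Subgroup H, (∀ a ∈ A, ∀ b ∈ A, Commute a b) ∧ A.index ≤ 2 := by
  obtain ⟨k, hk⟩ := h2.index (Subgroup.center H)
  have h3 : ¬ 3 ∣ (Subgroup.center H).index := fun h => by
    have := Nat.prime_three.dvd_of_dvd_pow (hk ▸ h)
    omega
  rcases h with h | ⟨hi, -⟩ | ⟨hi, -⟩ | ⟨hi, -⟩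
  · exact h
  all_goals exact absurd (by rw [hi]; norm_num) h3

end Cfsg.R3
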