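import Cfsg.Agent.R3.Four

/-! The class number of a rank three linear group is at least `p / 2`. -/

set_option autoImplicit false

namespace Cfsg.R3

open Module Pass Polynomial

universe u v

variable {p : ℕ} [hp : Fact p.Prime] {W : Type v} [AddCommGroup W] [Module (ZMod p) W] [Finite W]
  {H : Type u} [Group H] [Finite H] {ρ : Representation (ZMod p) H W}

omit [Finite W] [Finite H] in
theorem pow_apply_of_eq {g : H} {v : W} {c : ZMod p} (h : ρ g v = c • v) (k : ℕ) :
    ρ (g ^ k) v = c ^ k • v := by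
  induction k with
  | zero => simp
  | succ k ih => rw [pow_succ, map_mul, Module.End.mul_apply, h, map_smul, ih, smul_smul, pow_succ']

omit [Finite H] in
theorem not_isConj_sq {x : H} {v : W} (hv : v ≠ 0) {c : ZMod p} (h : ρ x v = c • v)
    (hc : orderOf c = 9) (hn : finrank (ZMod p) W < 6) : ¬ IsConj x (x ^ 2) := fun h1 => by
  classical
  let φ : H → ZMod p := fun y => if h : ∃ a : ZMod p, ρ y v = a • v then h.choose else 0
  have h2 : ∀ k, φ (x ^ k) = c ^ k := fun k => by
    have h3 : ∃ a : ZMod p, ρ (x ^ k) v = a • v := ⟨_, pow_apply_of_eq h k⟩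
    simp only [φ, dif_pos h3]
    exact smul_left_injective _ hv (h3.choose_spec.symm.trans (pow_apply_of_eq h k))
  have h3 : ∀ i, IsConj x (x ^ 2 ^ i) := fun i => by
    induction i with
    | zero => rw [pow_zero, pow_one]
    | succ i ih => exact h1.trans (by rw [pow_succ 2 i, pow_mul]; exact ih.pow 2)
  have h4 : Set.InjOn (fun i => c ^ 2 ^ i) (Finset.range 6) := fun i hi j hj e => by
    have h5 : ∀ i < 6, ∀ j < 6, 2 ^ i ≡ 2 ^ j [MOD 9] → i = j := by decide
    exact h5 i (by simpa using hi) j (by simpa using hj) (hc ▸ (isOfFinOrder_iff_pow_eq_one.2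
      ⟨9, by norm_num, hc ▸ pow_orderOf_eq_one c⟩).pow_inj_mod.1 e)
  have h5 := card_filter_isConj_le ρ ((Finset.range 6).image fun i => x ^ 2 ^ i) φ
    (by
      simp only [Finset.coe_image]
      rintro _ ⟨i, hi, rfl⟩ _ ⟨j, hj, rfl⟩ e
      rw [h4 hi hj (by simpa only [h2] using e)])
    (fun y hy f hf => by
      obtain ⟨i, -, rfl⟩ := Finset.mem_image.1 hy
      have h6 := Module.End.aeval_apply_of_hasEigenvector (p := f) (f := ρ (x ^ 2 ^ i))
        ⟨Module.End.mem_eigenspace_iff.2 (pow_apply_of_eq h _), hv⟩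
      rw [hf, LinearMap.zero_apply, eq_comm, smul_eq_zero, or_iff_left hv] at h6
      rw [h2, coe_aeval_eq_eval, h6]) x
  rw [Finset.filter_true_of_mem fun y hy => by
    obtain ⟨i, -, rfl⟩ := Finset.mem_image.1 hy
    exact h3 i, Finset.card_image_of_injOn fun i hi j hj e => h4 hi hj (by
      simpa only [h2] using congrArg φ e), Finset.card_range] at h5
  omega

namespace Rk

variable (T : Rk ρ)
include T

theorem exists_eigen : ∃ (g : H) (v : W) (c : ZMod p), v ≠ 0 ∧ ρ g v = c • v ∧
    orderOf c = p - 1 ∧ p - 1 ∣ orderOf g := by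
  obtain ⟨-, -, v, hv, h⟩ := T.dim_four
  obtain ⟨c, hc⟩ := IsCyclic.exists_ofOrder_eq_natCard (α := (ZMod p)ˣ)
  rw [Nat.card_eq_fintype_card, ZMod.card_units, ← orderOf_units] at hc
  obtain ⟨g, hg⟩ := h (c : ZMod p).val (ZMod.val_pos.2 c.ne_zero) (ZMod.val_lt _)
  rw [← Nat.cast_smul_eq_nsmul (ZMod p), ZMod.natCast_zmod_val] at hg
  refine ⟨g, v, c, hv, hg, hc, hc ▸ orderOf_dvd_of_pow_eq_one (smul_left_injective _ hv ?_)⟩
  simp only [← pow_apply_of_eq hg, pow_orderOf_eq_one, map_one, one_smul, Module.End.one_apply]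

theorem ord_of_dvd_sub {d : ℕ} (h : d ∣ p - 1) : ∃ x : H, orderOf x = d := by
  obtain ⟨g, -, -, -, -, -, hg⟩ := T.exists_eigen
  exact exists_orderOf_eq_of_dvd (h.trans hg)

theorem ord_of_dvd_add {s : ℕ} (e : ℕ) (hs : s.Prime) (h2 : s ≠ 2) (h : s ∣ p + 1)
    (he : s ^ e ∣ p + 1) : ∃ x : H, orderOf x = s ^ e := by
  obtain ⟨hn, h1, -⟩ := T.dim_four
  have := T.nt
  have := Fact.mk hs
  refine exists_orderOf_eq_pow ρ h2 (fun i hi hd => ?_) fun v hv => he.trans
    (Dvd.dvd.trans ⟨p - 1, by rw [← Nat.sq_sub_sq]⟩ (h1 v hv))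
  have := mt (T.big_of_dvd hs h2 h i hi) (not_not.2 hd)
  omega

theorem ord_four (h : 4 ∣ p ^ 2 - 1) : ∃ x : H, orderOf x = 4 := by
  have := T.nt
  exact exists_orderOf_eq_four ρ fun v hv => h.trans (T.dim_four.2.1 v hv)

omit [Finite W] in
theorem false_of_center {z : ℕ} (hz : ∃ x ∈ Subgroup.center H, orderOf x = z) (D : Finset ℕ)
    (hD : ∀ d ∈ D, ∃ x : H, orderOf x = d) (hc : ∀ d ∈ D, d.Coprime z)
    (h : p < 2 * (D.card * z) + 1) : False := by
  obtain ⟨x, hx, rfl⟩ := hz
  have h1 := card_mul_le_classes (Subgroup.zpowers_le.2 hx) D fun d hd =>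
    ⟨hD d hd, by rw [Nat.card_zpowers]; exact hc d hd⟩
  have h2 := T.small
  rw [Nat.card_zpowers] at h1
  omega

theorem center_of_prime {r : ℕ} (hr : r.Prime) (h7 : 7 ≤ r) (h : r ∣ p - 1) :
    ∃ x ∈ Subgroup.center H, orderOf x = r :=
  (T.ord_of_dvd_sub h).imp fun _ hx => ⟨T.mem_center_of_prime hr h7 hx, hx⟩

theorem false_of_prime {r : ℕ} (hr : r.Prime) (h7 : 7 ≤ r) (h : r ∣ p - 1) (D : Finset ℕ)
    (hD : ∀ d ∈ D, d ∣ p - 1 ∧ d.Coprime r) (h1 : p < 2 * (D.card * r) + 1) : False :=
  T.false_of_center (T.center_of_prime hr h7 h) D (fun d hd => T.ord_of_dvd_sub (hD d hd).1)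
    (fun d hd => (hD d hd).2) h1

theorem ne_seventeen : p ≠ 17 := by
  rintro rfl
  obtain ⟨ζ, hζ, hd⟩ := T.exists_lift
  obtain ⟨N, _, hN, h1⟩ := exists_normal_pow_mem ζ hζ 2
  obtain ⟨x, hx⟩ := T.ord_of_dvd_sub (d := 16) (by norm_num)
  have h2 : N ≠ ⊥ := fun h => by
    have h3 := h1 x 4 2 (by rw [← orderOf_dvd_iff_pow_eq_one, hx]; norm_num)
      (hd.trans T.dim_four.1.le)
    rw [h, Subgroup.mem_bot, ← orderOf_dvd_iff_pow_eq_one, hx] at h3
    norm_num at h3
  have := (Subgroup.nontrivial_iff_ne_bot N).2 h2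
  have := hN.center_nontrivial
  obtain ⟨t, ht, ht2⟩ := exists_orderOf_eq_prime_of_dvd_card (dvd_card_of_isPGroup_of_ne_bot
    (hN.to_subgroup _) ((Subgroup.nontrivial_iff_ne_bot (Subgroup.center N)).1 inferInstance))
  have h3 := T.mem_center_of_forall t.2 fun y hy =>
    congrArg Subtype.val (Subgroup.mem_center_iff.1 ht ⟨y, hy⟩)
  obtain ⟨y, hy⟩ := T.ord_of_dvd_add 2 Nat.prime_three (by norm_num) (by norm_num) (by norm_num)
  have h4 : orderOf (y * t) = 18 := by
    rw [Commute.orderOf_mul_eq_mul_orderOf_of_coprime (Subgroup.mem_center_iff.1 h3 y)] <;>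
      rw [hy, Subgroup.orderOf_coe, ht2] <;> norm_num
  refine T.false_of_center ⟨1, one_mem _, orderOf_one⟩ (Nat.divisors 16 ∪ Nat.divisors 18)
    (fun d hd => ?_) (fun _ _ => Nat.coprime_one_right _) (by decide)
  rcases Finset.mem_union.1 hd with h | h
  · exact T.ord_of_dvd_sub (Nat.dvd_of_mem_divisors h)
  · exact exists_orderOf_eq_of_dvd (h4 ▸ Nat.dvd_of_mem_divisors h)

theorem ne_nineteen : p ≠ 19 := by
  rintro rfl
  obtain ⟨g, v, c, hv, h1, h2, h3⟩ := T.exists_eigen
  have h4 := T.ord_four (by norm_num)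
  have h5 := T.ord_of_dvd_add 1 Nat.prime_five (by norm_num) (by norm_num) (by norm_num)
  by_cases h6 : 27 ∣ orderOf g
  · refine T.false_of_center ⟨1, one_mem _, orderOf_one⟩ (Nat.divisors 54 ∪ {4, 5})
      (fun d hd => ?_) (fun _ _ => Nat.coprime_one_right _) (by decide)
    simp only [Finset.mem_union, Finset.mem_insert, Finset.mem_singleton] at hd
    rcases hd with h | rfl | rfl
    · exact exists_orderOf_eq_of_dvd (x := g) ((Nat.dvd_of_mem_divisors h).trans (by omega))
    exacts [h4, h5]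
  obtain ⟨m, hm⟩ : 9 ∣ orderOf g := by omega
  have hm0 : m ≠ 0 := by rintro rfl; exact (orderOf_pos g).ne' hm
  have h7 : orderOf (g ^ m) = 9 := by
    rw [orderOf_pow_of_dvd hm0 (Dvd.intro_left _ hm.symm), hm, Nat.mul_div_cancel _ hm0.bot_lt]
  have h8 := not_isConj_sq hv (pow_apply_of_eq h1 m) (by
    rw [orderOf_pow' _ hm0, h2, show Nat.gcd (19 - 1) m = 2 from ?_]
    have h8 : Nat.gcd 18 m ∣ 18 := Nat.gcd_dvd_left _ _
    have h9 := Nat.gcd_dvd_right 18 m
    have h10 : 2 ∣ Nat.gcd 18 m := Nat.dvd_gcd (by norm_num) (by omega)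
    have h11 := Nat.le_of_dvd (by norm_num) h8
    have h12 : ¬ 3 ∣ Nat.gcd 18 m := fun h => by have := h.trans h9; omega
    change Nat.gcd 18 m = 2
    generalize Nat.gcd 18 m = d at *
    interval_cases d <;> omega) (by rw [T.dim_four.1]; norm_num)
  have h9 : orderOf (g ^ (orderOf g / 2)) = 2 := orderOf_pow_orderOf_div (orderOf_pos g).ne' (by omega)
  have h10 : Commute (g ^ m) (g ^ (orderOf g / 2)) := Commute.pow_pow_self _ _ _
  generalize g ^ m = x at *
  generalize g ^ (orderOf g / 2) = t at *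
  have h11 : orderOf (x ^ 2) = 9 := by rw [Nat.Coprime.orderOf_pow (by rw [h7]; norm_num), h7]
  have h12 : ∀ y, Commute y t → orderOf y = 9 → orderOf (y * t) = 18 ∧ (y * t) ^ 10 = y :=
    fun y h hy => ⟨by
      rw [h.orderOf_mul_eq_mul_orderOf_of_coprime (by rw [hy, h9]; norm_num), hy, h9], by
      rw [h.mul_pow, orderOf_dvd_iff_pow_eq_one.1 (h9 ▸ by norm_num : orderOf t ∣ 10), mul_one,
        pow_succ, ← hy, pow_orderOf_eq_one, one_mul]⟩
  have h13 := h12 x h10 h7
  have h14 := h12 _ (h10.pow_left 2) h11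
  have h15 : ∀ d ∈ Nat.divisors 18 ∪ {4, 5}, ∃ y : H, orderOf y = d ∧ (d = 9 → y = x) ∧
      (d = 18 → y = x * t) := fun d hd => by
    by_cases e1 : d = 9
    · exact ⟨x, by omega, fun _ => rfl, by omega⟩
    by_cases e2 : d = 18
    · exact ⟨x * t, by omega, by omega, fun _ => rfl⟩
    suffices ∃ y : H, orderOf y = d from this.imp fun y hy => ⟨hy, by omega, by omega⟩
    simp only [Finset.mem_union, Finset.mem_insert, Finset.mem_singleton] at hd
    rcases hd with h | rfl | rfl
    exacts [T.ord_of_dvd_sub (Nat.dvd_of_mem_divisors h), h4, h5]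
  choose! f hf using h15
  have h16 := card_add_two_le_classes _ f (fun d hd => (hf d hd).1) (a := x ^ 2) (b := x ^ 2 * t)
    (by rwa [h11, (hf 9 (by decide)).2.1 rfl])
    (fun h => h8 (by simpa only [h14.1, (hf 18 (by decide)).2.2 rfl, h13.2, h14.2] using h.pow 10))
    (by omega)
  have h17 := T.small
  rw [show (Nat.divisors 18 ∪ {4, 5}).card = 8 by decide] at h16
  omega

theorem false : False := by
  have h1 : ∀ d ∈ Nat.divisors 720, 12 ≤ d → (d - 1).Prime → d - 1 ∈
      [11, 17, 19, 23, 29, 47, 59, 71, 79, 89, 179, 239, 359, 719] := by decide +kernel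
  have h2 := h1 _ (Nat.mem_divisors.2 ⟨T.add_one_dvd, by norm_num⟩)
    (Nat.succ_le_succ T.eleven_le) hp.out
  simp only [Nat.add_sub_cancel, List.mem_cons, List.not_mem_nil, or_false] at h2
  rcases h2 with rfl | h | h | rfl | rfl | rfl | rfl | rfl | rfl | rfl | rfl | rfl | rfl | rfl
  · refine T.false_of_center ⟨1, one_mem _, orderOf_one⟩ (Nat.divisors 10 ∪ {3, 4})
      (fun d hd => ?_) (fun _ _ => Nat.coprime_one_right _) (by decide)
    simp only [Finset.mem_union, Finset.mem_insert, Finset.mem_singleton] at hd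
    rcases hd with h | rfl | rfl
    exacts [T.ord_of_dvd_sub (Nat.dvd_of_mem_divisors h), T.ord_of_dvd_add 1 Nat.prime_three
      (by norm_num) (by norm_num) (by norm_num), T.ord_four (by norm_num)]
  · exact T.ne_seventeen h
  · exact T.ne_nineteen h
  · exact T.false_of_prime (r := 11) (by norm_num) (by norm_num) (by norm_num) {1, 2}
      (by decide) (by decide)
  · exact T.false_of_prime (r := 7) (by norm_num) (by norm_num) (by norm_num) {1, 2, 4}
      (by decide) (by decide)
  · exact T.false_of_prime (r := 23) (by norm_num) (by norm_num) (by norm_num) {1, 2}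
      (by decide) (by decide)
  · exact T.false_of_prime (r := 29) (by norm_num) (by norm_num) (by norm_num) {1, 2}
      (by decide) (by decide)
  · refine T.false_of_center (T.center_of_prime (r := 7) (by norm_num) (by norm_num) (by norm_num))
      (Nat.divisors 10 ∪ {3, 4}) (fun d hd => ?_) (by decide) (by decide)
    simp only [Finset.mem_union, Finset.mem_insert, Finset.mem_singleton] at hd
    rcases hd with h | rfl | rfl
    exacts [T.ord_of_dvd_sub ((Nat.dvd_of_mem_divisors h).trans (by norm_num)),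
      T.ord_of_dvd_add 1 Nat.prime_three (by norm_num) (by norm_num) (by norm_num),
      T.ord_four (by norm_num)]
  · exact T.false_of_prime (r := 13) (by norm_num) (by norm_num) (by norm_num) {1, 2, 3, 6}
      (by decide) (by decide)
  · refine T.false_of_center (T.center_of_prime (r := 11) (by norm_num) (by norm_num)
      (by norm_num)) (Nat.divisors 8 ∪ {3}) (fun d hd => ?_) (by decide) (by decide)
    simp only [Finset.mem_union, Finset.mem_singleton] at hd
    rcases hd with h | rfl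
    exacts [T.ord_of_dvd_sub ((Nat.dvd_of_mem_divisors h).trans (by norm_num)),
      T.ord_of_dvd_add 1 Nat.prime_three (by norm_num) (by norm_num) (by norm_num)]
  · exact T.false_of_prime (r := 89) (by norm_num) (by norm_num) (by norm_num) {1, 2}
      (by decide) (by decide)
  · obtain ⟨x, hx, hx'⟩ := T.center_of_prime (r := 7) (by norm_num) (by norm_num) (by norm_num)
    obtain ⟨y, hy, hy'⟩ := T.center_of_prime (r := 17) (by norm_num) (by norm_num) (by norm_num)
    refine T.false_of_center (z := 119) ⟨x * y, mul_mem hx hy, ?_⟩ {1, 2}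
      (fun d hd => T.ord_of_dvd_sub ?_) (by decide) (by decide)
    · rw [Commute.orderOf_mul_eq_mul_orderOf_of_coprime (Subgroup.mem_center_iff.1 hy x)
        (by rw [hx', hy']; norm_num), hx', hy']
    · revert d
      decide
  · exact T.false_of_prime (r := 179) (by norm_num) (by norm_num) (by norm_num) {1, 2}
      (by decide) (by decide)
  · exact T.false_of_prime (r := 359) (by norm_num) (by norm_num) (by norm_num) {1, 2}
      (by decide) (by decide)

end Rk

end Cfsg.R3
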