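import Cfsg.Agent.R3.End
import Cfsg.Agent.S4878

/-! Groups with three classes of `p`-elements. -/

set_option autoImplicit false

namespace Cfsg.R3

open Module Pass

universe u v

variable {G : Type u} [Group G] [Finite G] {p : ℕ} [hp : Fact p.Prime]

omit [Finite G] in
theorem exists_affine {V H : Subgroup G} [hVn : V.Normal]
    (hc : V.IsComplement' H) (hV : Nat.card V = p) (hC : Subgroup.centralizer (V : Set G) ≤ V) :
    ∃ f : G →* affineGroup (ZMod p), Function.Injective f := by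
  let e : Multiplicative (ZMod p) ≃* V := mulEquivOfPrimeCardEq (by simp) hV
  let w : ZMod p → G := fun x => e (Multiplicative.ofAdd x)
  have hwV : ∀ x, w x ∈ V := fun x => (e _).2
  have hwa : ∀ x y, w (x + y) = w x * w y := fun x y => by simp only [w, ofAdd_add, map_mul]; rfl
  have hw0 : w 0 = 1 := by simp [w]
  have hwi : Function.Injective w := fun x y h => e.injective (Subtype.ext h)
  have hws : ∀ v ∈ V, ∃ x, w x = v := fun v hv =>
    ⟨(e.symm ⟨v, hv⟩).toAdd, by simp [w]⟩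
  have hwn : ∀ (n : ℕ) x, w (n * x) = w x ^ n := fun n x => by
    induction n with
    | zero => simp [hw0]
    | succ n ih => rw [Nat.cast_succ, add_mul, one_mul, hwa, ih, pow_succ]
  have hd : ∀ v ∈ V, ∀ v' ∈ V, (v : G ⧸ H) = v' → v = v' := fun v hv v' hv' h =>
    inv_mul_eq_one.1 (Subgroup.mem_bot.1 (hc.disjoint.le_bot
      ⟨V.mul_mem (V.inv_mem hv) hv', QuotientGroup.eq.1 h⟩))
  have hβ : Function.Bijective fun x => (w x : G ⧸ H) := by
    refine ⟨fun x y h => hwi (hd _ (hwV x) _ (hwV y) h), fun q => ?_⟩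
    obtain ⟨g, rfl⟩ := QuotientGroup.mk_surjective q
    obtain ⟨⟨v, h⟩, rfl⟩ := hc.2 g
    obtain ⟨x, hx⟩ := hws v v.2
    exact ⟨x, QuotientGroup.eq.2 (by simp [hx])⟩
  let φ : G →* Equiv.Perm (ZMod p) :=
    (Equiv.ofBijective _ hβ).symm.permCongrHom.toMonoidHom.comp (MulAction.toPermHom G (G ⧸ H))
  have hφ : ∀ g x y, φ g x = y ↔ ((g * w x : G) : G ⧸ H) = w y := fun g x y =>
    Equiv.symm_apply_eq (Equiv.ofBijective _ hβ) (x := ((g * w x : G) : G ⧸ H))
  have hconj : ∀ g a, g * w 1 * g⁻¹ = w a → ∀ x, g * w x * g⁻¹ = w (a * x) := fun g a h x => by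
    obtain ⟨n, rfl⟩ := ZMod.natCast_zmod_surjective x
    rw [mul_comm a, hwn, ← h, conj_pow, ← hwn, mul_one]
  have hform : ∀ (b : ZMod p) (h : H) a, h * w 1 * h.1⁻¹ = w a → ∀ x, φ (w b * h) x = a * x + b :=
    fun b h a ha x => by
      rw [hφ, add_comm, hwa, ← hconj h a ha, eq_comm, QuotientGroup.eq]
      simp [mul_assoc]
  have hw1 : ∀ a, a ≠ 0 → w a ≠ 1 := fun a ha h => ha (hwi (h.trans hw0.symm))
  refine ⟨φ.codRestrict _ fun g => ?_, ?_⟩
  · obtain ⟨⟨v, h⟩, rfl⟩ := hc.2 g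
    obtain ⟨b, hb⟩ := hws v v.2
    obtain ⟨a, ha⟩ := hws _ (hVn.conj_mem _ (hwV 1) h)
    refine ⟨Units.mk0 a ?_, b, fun x => ?_⟩
    · rintro rfl
      rw [hw0, eq_comm, mul_inv_eq_one, mul_eq_left] at ha
      exact hw1 1 one_ne_zero ha
    · simp only [← hb]
      exact hform b h a ha.symm x
  · rw [injective_iff_map_eq_one]
    intro g hg
    have h1 : ∀ x, ((g * w x : G) : G ⧸ H) = w x := fun x =>
      (hφ g x x).1 (DFunLike.congr_fun (congrArg Subtype.val hg) x)
    have h2 : g ∈ H := by simpa [hw0] using QuotientGroup.eq.1 (h1 0).symm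
    refine Subgroup.mem_bot.1 (hc.disjoint.le_bot ⟨hC fun v hv => ?_, h2⟩)
    obtain ⟨x, rfl⟩ := hws v hv
    rw [← mul_inv_eq_iff_eq_mul.1 (hd _ (hVn.conj_mem _ hv g) _ hv
      ((QuotientGroup.eq.2 (by simpa [mul_assoc] using h2)).trans (h1 x)))]

theorem main_mul {V : Type v} [CommGroup V] [Finite V] [Nontrivial V]
    (hV : ∀ v : V, v ^ p = 1) (φ : G →* MulAut V) (inj : Function.Injective φ)
    (cop : ¬ p ∣ Nat.card G) (three : ∀ x y z : V, x ≠ 1 → y ≠ 1 → z ≠ 1 →
      (∃ g, φ g x = y) ∨ (∃ g, φ g x = z) ∨ ∃ g, φ g y = z)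
    (small : 2 * Nat.card (ConjClasses G) + 1 ≤ p) :
    Nat.card V = p ∧ 2 * Nat.card G + 1 = p ∧ Nat.card (ConjClasses G) = Nat.card G := by
  have _ : Module (ZMod p) (Additive V) := AddCommGroup.zmodModule fun v => hV v.toMul
  let ρ : G →* Module.End (ZMod p) (Additive V) :=
    { toFun := fun g => (MonoidHom.toAdditive (φ g).toMonoidHom).toZModLinearMap p
      map_one' := by rw [map_one]; rfl
      map_mul' := fun a b => by rw [map_mul]; rfl }
  have h1 : Function.Injective ρ := fun a b h => inj (MulEquiv.ext fun v =>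
    LinearMap.congr_fun h (Additive.ofMul v))
  have h2 : finrank (ZMod p) (Additive V) = 1 := by
    by_contra h
    have := finrank_pos (R := ZMod p) (M := Additive V)
    exact Rk.false (ρ := ρ) ⟨h1, cop, three, small, by omega⟩
  have h3 := pow_le_of_three (W := Additive V) (ρ := ρ) three
  have h4 := classes_of_comm fun a b : G => h1 (by
    obtain ⟨c, hc⟩ := (LinearMap.existsUnique_eq_smul_id_of_finrank_eq_one h2 (ρ a)).exists
    rw [map_mul, map_mul, hc]
    ext v
    simp)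
  rw [h2, pow_one] at h3
  exact ⟨(card_eq_pow (p := p) (Additive V)).trans (by rw [h2, pow_one]), by omega, h4⟩

/-- at most two classes of non-identity `p`-elements -/
def Three (p : ℕ) (G : Type u) [Group G] : Prop :=
  ∀ x y z : G, x ≠ 1 → y ≠ 1 → z ≠ 1 → (∃ k, orderOf x = p ^ k) → (∃ k, orderOf y = p ^ k) →
    (∃ k, orderOf z = p ^ k) → IsConj x y ∨ IsConj x z ∨ IsConj y z

theorem rc_quotient (N : Subgroup G) [N.Normal] : ∃ F : RC p G → RC p (G ⧸ N),
    Function.Surjective F ∧ ∀ c, (F c).1 = ConjClasses.map (QuotientGroup.mk' N) c.1 := by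
  refine ⟨fun c => ⟨ConjClasses.map (QuotientGroup.mk' N) c.1, ?_⟩, ?_, fun _ => rfl⟩
  · obtain ⟨_, g, rfl, hg⟩ := c
    exact ⟨g, rfl, fun h => hg (h.trans (orderOf_map_dvd (QuotientGroup.mk' N) g))⟩
  · rintro ⟨_, y, rfl, hy⟩
    obtain ⟨x, hx, rfl⟩ := exists_pRegular_lift _ (QuotientGroup.mk'_surjective N) hy
    exact ⟨⟨_, x, rfl, hx⟩, rfl⟩

theorem core_bot (hs : IsPSolvable p G) (hO : pPrimeCore p G = ⊥) (hdiv : p ∣ Nat.card G)
    (h3 : Three p G) (small : 2 * Nat.card (RC p G) + 1 ≤ p) :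
    2 * Nat.card (RC p G) + 1 = p ∧ 2 * Nat.card G = p * (p - 1) ∧
      ∃ f : G →* affineGroup (ZMod p), Function.Injective f := by
  have hQp := isPGroup_pCore p G
  have : Nontrivial G := Finite.one_lt_card_iff_nontrivial.1
    (hp.out.one_lt.trans_le (Nat.le_of_dvd Nat.card_pos hdiv))
  have hC := hs.centralizer_pCore_le hO
  obtain ⟨V, hM, hMV⟩ := exists_isMinNormal_le (inferInstance : (pCore p G).Normal)
    (hs.pCore_ne_bot_or.resolve_right (not_not.2 hO))
  have hVp := hQp.to_le hMV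
  have hE := hM.isElementaryAbelian_of_isPGroup hVp
  have hVn := hM.1
  have hi : ¬ p ∣ V.index := fun hi => by
    obtain ⟨⟨v, hv⟩, hv1⟩ := Subgroup.ne_bot_iff_exists_ne_one.1 hM.2.1
    obtain ⟨F, hF, -⟩ := rc_quotient (p := p) V
    have h1 := Nat.card_le_card_of_surjective F hF
    have h2 := hp.out.two_le
    have h4 : ∀ x : G, (x : G ⧸ V) ≠ 1 → ¬ IsConj v x := fun x hx h => by
      obtain ⟨c, rfl⟩ := isConj_iff.1 h
      exact hx ((QuotientGroup.eq_one_iff _).2 (hVn.conj_mem v hv c))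
    rcases Agent.S4878.result p (hs.quotient V) hi fun x y hx hy hx' hy' => by
      obtain ⟨x, h1, rfl⟩ := exists_pElement_lift _ (QuotientGroup.mk'_surjective V) hx'
      obtain ⟨y, h2, rfl⟩ := exists_pElement_lift _ (QuotientGroup.mk'_surjective V) hy'
      exact MonoidHom.map_isConj _ (((h3 v x y (fun h => hv1 (Subtype.ext h))
        (fun h => hx (by rw [h, map_one])) (fun h => hy (by rw [h, map_one]))
        (exists_orderOf_eq_pow_of_mem hVp hv) h1 h2).resolve_left (h4 x hx)).resolve_left (h4 y hy))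
      with h | ⟨h, -⟩ | ⟨h, h', -⟩
    all_goals
      unfold RC at h1 small
      omega
  obtain rfl : V = pCore p G := le_antisymm hMV (by
    obtain ⟨k, hk⟩ := hQp.index (V.subgroupOf (pCore p G))
    rcases k with _ | k
    · exact Subgroup.relIndex_eq_one.1 hk
    · exact absurd ((dvd_pow_self p k.succ_ne_zero).trans
        (hk ▸ Subgroup.relIndex_dvd_index_of_le hMV)) hi)
  set V := pCore p G
  obtain ⟨H, hc⟩ := Subgroup.exists_right_complement'_of_coprime (N := V) (by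
    obtain ⟨k, hk⟩ := hVp.exists_card_eq
    rw [hk]
    exact Nat.Coprime.pow_left _ ((Nat.Prime.coprime_iff_not_dvd hp.out).2 hi))
  have hH : ¬ p ∣ Nat.card H := by rwa [← hc.symm.index_eq_card]
  obtain ⟨e⟩ := nonempty_mulEquiv_quotient_of_isComplement' hc
  have h1 : Nat.card (RC p G) = Nat.card (ConjClasses H) := le_antisymm
    (card_rc_le hs hH (hc.index_eq_card ▸ hVp.exists_card_eq))
    (Nat.card_le_card_of_surjective _ (rc_surjective
      (e.symm.toMonoidHom.comp (QuotientGroup.mk' _))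
      (e.symm.surjective.comp (QuotientGroup.mk'_surjective _)) hH))
  let _ : CommGroup V := ⟨hE.1.is_comm.comm⟩
  have := (Subgroup.nontrivial_iff_ne_bot V).2 hM.2.1
  have hcomm : ∀ a ∈ V, ∀ b ∈ V, a * b = b * a := fun a ha b hb =>
    congrArg Subtype.val (hE.1.is_comm.comm ⟨a, ha⟩ ⟨b, hb⟩)
  have h2 : ∀ v w : V, IsConj v.1 w.1 → ∃ g, (MulAut.conjNormal.comp H.subtype) g v = w :=
    fun v w h => by
      obtain ⟨g, hg⟩ := isConj_iff.1 h
      obtain ⟨⟨u, h⟩, rfl⟩ := hc.2 g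
      refine ⟨h, Subtype.ext ?_⟩
      calc h.1 * v * h.1⁻¹ = u.1⁻¹ * (u * h * v * (u.1 * h.1)⁻¹) * u := by group
        _ = w := by rw [hg, mul_assoc, ← hcomm u u.2 _ w.2, inv_mul_cancel_left]
  obtain ⟨h4, h5, h6⟩ := main_mul (V := V) (fun v => Subtype.ext (hE.2 _ v.2))
    (MulAut.conjNormal.comp H.subtype)
    ((injective_iff_map_eq_one _).2 fun g hg => Subtype.ext (Subgroup.mem_bot.1
      (hc.disjoint.le_bot ⟨hC fun v hv => by
        exact (mul_inv_eq_iff_eq_mul.1
          (congrArg Subtype.val (DFunLike.congr_fun hg ⟨v, hv⟩))).symm, g.2⟩))) hH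
    (fun x y z hx hy hz => (h3 x y z (fun h => hx (Subtype.ext h)) (fun h => hy (Subtype.ext h))
      (fun h => hz (Subtype.ext h)) (exists_orderOf_eq_pow_of_mem hVp x.2)
      (exists_orderOf_eq_pow_of_mem hVp y.2) (exists_orderOf_eq_pow_of_mem hVp z.2)).imp (h2 _ _)
      (Or.imp (h2 _ _) (h2 _ _))) (h1 ▸ small)
  refine ⟨by rw [h1, h6, h5], ?_, exists_affine hc h4 hC⟩
  rw [← hc.card_mul_card, h4, show p - 1 = 2 * Nat.card H by omega]
  ring

theorem core (hs : IsPSolvable p G) (hdiv : p ∣ Nat.card G)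
    (h3 : Three p G) (small : 2 * Nat.card (RC p G) + 1 ≤ p) :
    2 * Nat.card (RC p G) + 1 = p ∧ 2 * Nat.card G = p * (p - 1) ∧
      ∃ f : G →* affineGroup (ZMod p), Function.Injective f := by
  by_cases hO : pPrimeCore p G = ⊥
  · exact core_bot hs hO hdiv h3 small
  set N := pPrimeCore p G with hN
  have hNp : ¬ p ∣ Nat.card N := not_dvd_card_pPrimeCore p
  have hreg : ∀ n ∈ N, ¬ p ∣ orderOf n := fun n hn h => hNp (h.trans (N.orderOf_dvd_natCard hn))
  obtain ⟨⟨n, hn⟩, hn1⟩ := Subgroup.ne_bot_iff_exists_ne_one.1 hO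
  obtain ⟨F, hF, hF'⟩ := rc_quotient (p := p) N
  have h1 := (fiber_of_card_le hF (a := ⟨ConjClasses.mk n, n, rfl, hreg n hn⟩)
    (b := ⟨ConjClasses.mk 1, 1, rfl, hreg 1 N.one_mem⟩) (fun h => hn1 (Subtype.ext
      (isConj_one_left.1 (ConjClasses.mk_eq_mk_iff_isConj.1 (congrArg Subtype.val h)))))
    (Subtype.ext (by
      rw [hF', hF']
      exact congrArg ConjClasses.mk ((QuotientGroup.eq_one_iff n).2 hn)))).1
  have h2 := (core_bot (hs.quotient N) (pPrimeCore_quotient_pPrimeCore p)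
    (((Nat.Prime.dvd_mul Fact.out).1 (N.card_mul_index ▸ hdiv)).resolve_left hNp)
    (fun x y z hx hy hz hx' hy' hz' => by
      obtain ⟨x, h1, rfl⟩ := exists_pElement_lift _ (QuotientGroup.mk'_surjective N) hx'
      obtain ⟨y, h2, rfl⟩ := exists_pElement_lift _ (QuotientGroup.mk'_surjective N) hy'
      obtain ⟨z, h4, rfl⟩ := exists_pElement_lift _ (QuotientGroup.mk'_surjective N) hz'
      exact (h3 x y z (fun h => hx (by rw [h, map_one])) (fun h => hy (by rw [h, map_one]))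
        (fun h => hz (by rw [h, map_one])) h1 h2 h4).imp (MonoidHom.map_isConj _)
        (Or.imp (MonoidHom.map_isConj _) (MonoidHom.map_isConj _))) (by omega)).1
  omega

end Cfsg.R3
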