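import Cfsg.Agent.R3.Big
import Cfsg.Agent.S4904

/-! Normal subgroups of prime power order in dimension four. -/

set_option autoImplicit false

namespace Cfsg.R3

open Module Pass
open scoped commutatorElement

universe u v

theorem exists_comm_mem {G : Type u} [Group G] [Finite G] {r : ℕ} [Fact r.Prime] {Q Z : Subgroup G}
    [Z.Normal] (hQ : IsPGroup r Q) (h : ¬ Q ≤ Z) : ∃ y ∈ Q, y ∉ Z ∧ ∀ x ∈ Q, ⁅y, x⁆ ∈ Z := by
  obtain ⟨L, -, -, -, h3, h5⟩ := exists_normal_relIndex_eq_of_isPGroup hQ (N := Z.subgroupOf Q)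
    (K := ⊤) (lt_top_iff_ne_top.2 (mt Subgroup.subgroupOf_eq_top.1 h))
  obtain ⟨j, hj, hj'⟩ : ∃ j ∈ L, j ∉ Z.subgroupOf Q := by
    by_contra! h
    exact (Fact.out : r.Prime).ne_one (h3.symm.trans (Subgroup.relIndex_eq_one.2 h))
  exact ⟨j, j.2, hj', fun x hx =>
    h5 (Subgroup.commutator_mem_commutator hj (Subgroup.mem_top ⟨x, hx⟩))⟩

variable {p : ℕ} [hp : Fact p.Prime] {W : Type v} [AddCommGroup W] [Module (ZMod p) W] [Finite W]
  {H : Type u} [Group H] [Finite H] {ρ : Representation (ZMod p) H W}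

theorem sq_eq_one_of_pow (h4 : p % 4 = 3) {c : ZMod p} {k : ℕ} (h : c ^ 2 ^ k = 1) : c ^ 2 = 1 := by
  induction k generalizing c with
  | zero => rw [show c = 1 by simpa using h, one_pow]
  | succ k ih =>
    rw [pow_succ', pow_mul] at h
    exact (sq_eq_one_iff.1 (ih h)).resolve_right fun h =>
      ZMod.mod_four_ne_three_of_sq_eq_neg_one h h4

omit [Finite W] [Finite H] in
theorem card_pm_le (inj : Function.Injective ρ) : Nat.card (pm ρ) ≤ 2 := by
  classical
  exact (Nat.card_le_card_of_injective (fun g : pm ρ => (⟨ρ g, by simpa using mem_pm.1 g.2⟩ :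
    ({1, -1} : Finset (Module.End (ZMod p) W)))) fun a b h =>
      Subtype.ext (inj (congrArg Subtype.val h))).trans
    ((Nat.card_eq_finsetCard _).trans_le Finset.card_le_two)

namespace Rk

variable (T : Rk ρ)
include T

theorem smul_of_mem_center {a : H} (ha : a ∈ Subgroup.center H) : ∃ c : ZMod p, ρ a = c • 1 :=
  T.exists_smul (by rw [T.dim_four.1]; norm_num)
    (fun _ _ b hb => Subgroup.mem_center_iff.1 hb _) ha

theorem le_center_of_comm {A : Subgroup H} [A.Normal] (hA : ∀ a ∈ A, ∀ b ∈ A, Commute a b) :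
    A ≤ Subgroup.center H := fun a ha => by
  obtain ⟨c, hc⟩ := T.exists_smul (by rw [T.dim_four.1]; norm_num) hA ha
  exact Subgroup.mem_center_iff.2 fun g => T.inj (by simp [hc])

theorem mem_center_of_forall {Q : Subgroup H} [Q.Normal] {y : H} (hy : y ∈ Q)
    (h : ∀ x ∈ Q, x * y = y * x) : y ∈ Subgroup.center H :=
  T.le_center_of_comm (A := Q ⊓ Subgroup.centralizer Q) (fun a ha _ hb => hb.2 a ha.1) ⟨hy, h⟩

theorem le_center_of_odd {r : ℕ} [hr : Fact r.Prime] (h2 : r ≠ 2) {Q : Subgroup H} [Q.Normal]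
    (hQ : IsPGroup r Q) : Q ≤ Subgroup.center H := by
  by_contra h
  obtain ⟨y, hy, hyZ, h1⟩ := exists_comm_mem hQ h
  refine hyZ (T.mem_center_of_forall hy fun x hx => (commutatorElement_eq_one_iff_mul_comm.1 ?_).symm)
  obtain ⟨c, hc⟩ := T.smul_of_mem_center (h1 x hx)
  have h3 := congrArg LinearMap.det hc
  rw [LinearMap.det_smul, map_one, mul_one, T.dim_four.1] at h3
  have h4 : LinearMap.det (ρ ⁅y, x⁆) = 1 := by
    let d : H →* ZMod p := LinearMap.det.comp ρ
    change d _ = 1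
    rw [commutatorElement_def, map_mul, map_mul, map_mul, mul_right_comm (d y), ← map_mul,
      mul_inv_cancel, map_one, one_mul, ← map_mul, mul_inv_cancel, map_one]
  obtain ⟨k, hk⟩ := exists_orderOf_eq_pow_of_mem hQ (mul_mem (mul_mem (mul_mem hy hx) (inv_mem hy))
    (inv_mem hx))
  refine orderOf_eq_one_iff.1 (Nat.Coprime.eq_one_of_dvd (m := 2 ^ 2) ?_
    (orderOf_dvd_of_pow_eq_one (T.inj ?_)))
  · rw [commutatorElement_def, hk]
    exact Nat.coprime_pow_primes _ _ hr.out Nat.prime_two h2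
  · rw [map_pow, hc, smul_pow, one_pow, show c ^ 2 ^ 2 = 1 from h3.symm.trans h4, one_smul, map_one]

theorem mem_pm_of_center (h4 : p % 4 = 3) {Q : Subgroup H} (hQ : IsPGroup 2 Q) {y : H} (hy : y ∈ Q)
    (h : y ∈ Subgroup.center H) : y ∈ pm ρ := by
  obtain ⟨c, hc⟩ := T.smul_of_mem_center h
  obtain ⟨k, hk⟩ := hQ ⟨y, hy⟩
  have := T.nt
  have h1 : c ^ 2 ^ k = 1 := smul_left_injective (ZMod p) (one_ne_zero (α := Module.End (ZMod p) W))
    (by
      have h2 := congrArg ρ (show y ^ 2 ^ k = 1 from congrArg Subtype.val hk)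
      rw [map_pow, hc, smul_pow, one_pow, map_one] at h2
      simpa using h2)
  rcases sq_eq_one_iff.1 (sq_eq_one_of_pow h4 h1) with rfl | rfl
  · exact Or.inl (by simpa using hc)
  · exact Or.inr (by simpa using hc)

theorem le_pm (h4 : p % 4 = 3) (h29 : 29 ≤ p) {Q : Subgroup H} [hQn : Q.Normal]
    (hQ : IsPGroup 2 Q) : Q ≤ pm ρ := by
  classical
  by_contra h
  have := T.nt
  have hn := T.dim_four.1
  let E := Q ⊓ (Subgroup.centralizer (Q.map (QuotientGroup.mk' (pm ρ)) : Set _)).comap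
    (QuotientGroup.mk' (pm ρ))
  have hE : ∀ y, y ∈ E ↔ y ∈ Q ∧ ∀ x ∈ Q, ⁅x, y⁆ ∈ pm ρ := fun y => by
    refine and_congr_right fun _ => Set.forall_mem_image.trans (forall₂_congr fun x _ => ?_)
    rw [← commutatorElement_eq_one_iff_mul_comm, ← map_commutatorElement, QuotientGroup.mk'_apply,
      QuotientGroup.eq_one_iff]
  have : (Q.map (QuotientGroup.mk' (pm ρ))).Normal := hQn.map _ (QuotientGroup.mk'_surjective _)
  have h1 : ∀ y ∈ Q, (∀ x ∈ Q, x * y = y * x) → y ∈ pm ρ := fun y hy h =>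
    T.mem_pm_of_center h4 hQ hy (T.mem_center_of_forall hy h)
  have h2 : ∀ y ∈ E, ∀ x ∈ Q, ρ (x * y * x⁻¹) = ρ y ∨ ρ (x * y * x⁻¹) = -ρ y := fun y hy x hx => by
    rw [show x * y * x⁻¹ = ⁅x, y⁆ * y by simp [commutatorElement_def], map_mul]
    rcases ((hE y).1 hy).2 x hx with h | h <;> simp [h]
  have h3 : (2 : ZMod p) ≠ 0 := fun h => T.ne_two ((Nat.prime_dvd_prime_iff_eq hp.out
    Nat.prime_two).1 ((ZMod.natCast_eq_zero_iff 2 p).1 h))
  have h5 : ∀ y ∈ E, y ∉ pm ρ → LinearMap.trace _ _ (ρ y) = 0 := fun y hy hy' => by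
    obtain ⟨x, hx, hxy⟩ : ∃ x ∈ Q, x * y ≠ y * x := by
      by_contra! h
      exact hy' (h1 y hy.1 h)
    have h6 := congrArg (LinearMap.trace _ _) ((h2 y hy x hx).resolve_left fun h =>
      hxy (mul_inv_eq_iff_eq_mul.1 (T.inj h)))
    rw [map_mul, LinearMap.trace_mul_comm, ← map_mul, inv_mul_cancel_left, map_neg,
      eq_neg_iff_add_eq_zero, ← two_mul] at h6
    exact (mul_eq_zero.1 h6).resolve_left h3
  have h6 : Nat.card E ≤ 32 := by
    have h7 : (4 : ZMod p) ≠ 0 := by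
      rw [show (4 : ZMod p) = 2 * 2 by norm_num]
      exact mul_ne_zero h3 h3
    have := Fintype.ofFinite (E ⧸ (pm ρ).subgroupOf E)
    have h8 := (LinearIndependent.of_pairwise_dual_eq_zero_one
      (fun i : E ⧸ (pm ρ).subgroupOf E => ρ i.out)
      (fun i => (4 : ZMod p)⁻¹ • LinearMap.trace _ _ ∘ₗ LinearMap.mulLeft (ZMod p) (ρ i.out.1⁻¹))
      (fun i j hij => by
        simp only [LinearMap.smul_apply, LinearMap.comp_apply, LinearMap.mulLeft_apply, ← map_mul]
        rw [h5 _ (mul_mem (inv_mem i.out.2) j.out.2) fun h => hij (by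
          rw [← i.out_eq', ← j.out_eq']; exact QuotientGroup.eq.2 h), smul_zero])
      fun i => by
        simp only [LinearMap.smul_apply, LinearMap.comp_apply, LinearMap.mulLeft_apply, ← map_mul]
        rw [inv_mul_cancel, map_one, LinearMap.trace_one, hn]
        exact inv_mul_cancel₀ h7).fintype_card_le_finrank
    rw [Module.finrank_linearMap, hn, ← Nat.card_eq_fintype_card] at h8
    rw [Subgroup.card_eq_card_quotient_mul_card_subgroup ((pm ρ).subgroupOf E)]
    exact Nat.mul_le_mul h8 ((Nat.card_le_card_of_injective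
      (fun g : (pm ρ).subgroupOf E => (⟨g.1, g.2⟩ : pm ρ))
      fun a b h => Subtype.ext (Subtype.ext (Subtype.mk.inj h))).trans (card_pm_le T.inj))
  obtain ⟨y, hy, hy2⟩ : ∃ y ∈ E, y * y ≠ 1 := by
    by_contra! h7
    obtain ⟨y, hy, hyZ, h8⟩ := exists_comm_mem hQ h
    refine hyZ (T.mem_pm_of_center h4 hQ hy (T.le_center_of_comm (A := E) (fun a ha b hb => ?_)
      ((hE y).2 ⟨hy, fun x hx => commutatorElement_inv y x ▸ inv_mem (h8 x hx)⟩)))
    exact comm_of_mul_self (h7 a ha) (h7 b hb) (h7 _ (mul_mem ha hb))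
  have h7 : ρ y * ρ y = -1 := by
    rw [← map_mul]
    refine (h1 _ (mul_mem hy.1 hy.1) fun x hx => mul_inv_eq_iff_eq_mul.1 (T.inj ?_)).resolve_left
      fun h => hy2 (T.inj (h.trans (map_one ρ).symm))
    rw [show x * (y * y) * x⁻¹ = x * y * x⁻¹ * (x * y * x⁻¹) by group, map_mul, map_mul ρ y]
    rcases h2 y hy x hx with h | h <;> simp [h]
  have h8 := T.not_dickson (K := Subgroup.centralizer {y}) (c := 32) (dickson_of_sq
    (σ := ρ.comp (Subgroup.centralizer {y}).subtype) (T.inj.comp (Subgroup.subtype_injective _)) h4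
    (fun h => T.cop (h.trans (Subgroup.card_subgroup_dvd_card _))) (by omega) h7 fun g => by
      change _ * ρ g = ρ g * _
      rw [← map_mul, ← map_mul, g.2 y rfl]) (by
    rw [← card_isConj_eq_index_centralizer]
    refine le_trans (Nat.card_le_card_of_injective (fun x => (⟨x.1, ?_⟩ : E))
      fun a b h => Subtype.ext (Subtype.mk.inj h)) h6
    obtain ⟨c, hc⟩ := isConj_iff.1 x.2
    exact hc ▸ (inferInstance : E.Normal).conj_mem y hy c)
  have h9 := T.small
  rw [hn] at h8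
  nlinarith [Nat.pow_le_pow_left h29 3, pow_succ p 3]

theorem sylow_normal {r : ℕ} [hr : Fact r.Prime] (h7 : 7 ≤ r) (P : Sylow r H) :
    (P : Subgroup H).Normal := by
  obtain ⟨ζ, hζ, hd⟩ := T.exists_lift
  have hn := T.dim_four.1
  by_contra hP
  have h1 : (Subgroup.center H).index ≤ 2520 := by
    rcases (Agent.S4904.result _ (by omega) ζ rfl hζ r (by omega) P).resolve_left hP with
      ⟨⟨e⟩, h⟩ | ⟨-, h, -⟩ | ⟨-, -, ⟨e⟩⟩ | ⟨h, -⟩
    · have h1 := card_psl2_le r (by omega)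
      have h2 := Nat.pow_le_pow_left (show r ≤ 9 by omega) 3
      rw [← Nat.card_congr e.toEquiv] at h1
      change 2 * Subgroup.index _ + r ≤ _ at h1
      omega
    · omega
    · have h1 := two_mul_nat_card_alternatingGroup (α := Fin 7)
      rw [← Nat.card_congr e.toEquiv, Nat.card_perm, Nat.card_fin] at h1
      change 2 * Subgroup.index _ = 5040 at h1
      omega
    · omega
  have h2 := T.pow_le
  have h3 := T.small
  have h4 := T.eleven_le
  have h5 := Nat.mul_le_mul_right (Nat.card (Subgroup.center H)) h1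
  rw [hn, ← (Subgroup.center H).index_mul_card] at h2
  by_cases hz : r ∣ Nat.card (Subgroup.center H)
  · have h6 := Nat.le_of_dvd Nat.card_pos hz
    have h8 := card_mul_le_classes (le_refl (Subgroup.center H)) {1} (by simp)
    rw [Finset.card_singleton] at h8
    nlinarith [Nat.pow_le_pow_left (show 15 ≤ p by omega) 3, pow_succ p 3]
  · have h6 := two_mul_card_center_le ((dvd_card_of_isPGroup_of_ne_bot P.isPGroup' fun h => hP
      (h ▸ inferInstance)).trans (Subgroup.card_subgroup_dvd_card _)) hz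
    nlinarith [Nat.pow_le_pow_left h4 3, pow_succ p 3]

theorem mem_center_of_prime {r : ℕ} (hr : r.Prime) (h7 : 7 ≤ r) {x : H} (hx : orderOf x = r) :
    x ∈ Subgroup.center H := by
  have := Fact.mk hr
  obtain ⟨P, hP⟩ := (IsPGroup.of_card (G := Subgroup.zpowers x) (p := r) (n := 1)
    (by rw [Nat.card_zpowers, hx, pow_one])).exists_le_sylow
  have := T.sylow_normal h7 P
  exact T.le_center_of_odd (by omega) P.isPGroup' (hP (Subgroup.mem_zpowers x))

theorem big_of_dvd {s : ℕ} (hs : s.Prime) (h2 : s ≠ 2) (h : s ∣ p + 1) :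
    ∀ i, 0 < i → i < 2 → ¬ s ∣ p ^ i - 1 := fun i _ _ hd => by
  obtain rfl : i = 1 := by omega
  have h3 := (Nat.dvd_sub h hd)
  rw [pow_one, show p + 1 - (p - 1) = 2 by have := T.eleven_le; omega] at h3
  exact h2 ((Nat.prime_dvd_prime_iff_eq hs Nat.prime_two).1 h3)

theorem add_one_dvd : p + 1 ∣ 720 := by
  obtain ⟨hn, h, -⟩ := T.dim_four
  have h11 := T.eleven_le
  have h1 : p ^ 2 - 1 = (p + 1) * (p - 1) := by rw [← Nat.sq_sub_sq]
  refine (Nat.dvd_iff_prime_pow_dvd_dvd _ _).2 fun s e hs hd => ?_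
  have := Fact.mk hs
  by_cases h2 : s = 2
  · subst h2
    suffices e ≤ 4 from (pow_dvd_pow 2 this).trans (by norm_num)
    by_contra he
    have h3 : 32 ∣ p + 1 := (pow_dvd_pow 2 (not_le.1 he)).trans hd
    have h4 : p % 4 = 3 := by omega
    obtain ⟨S⟩ : Nonempty (Sylow 2 H) := inferInstance
    obtain ⟨v, hv, x, hx⟩ := short_of_two (σ := ρ.comp (S : Subgroup H).subtype)
      (T.inj.comp (Subgroup.subtype_injective _)) h4 S.isPGroup' hn
    have h5 := Nat.le_of_dvd (Nat.pos_of_ne_zero Subgroup.index_ne_zero_of_finite)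
      (pow_dvd_index_sylow (e := 6) S (Dvd.dvd.trans (by
        rw [h1]; exact Nat.mul_dvd_mul h3 (show 2 ∣ p - 1 by omega)) (h v hv)))
    obtain ⟨ζ, hζ, hd⟩ := T.exists_lift
    obtain ⟨N, _, hN, h6⟩ := exists_normal_pow_mem ζ hζ 2
    obtain ⟨k, hk⟩ := S.isPGroup' x
    have h7 : orderOf x ∣ 8 := by
      refine orderOf_dvd_of_pow_eq_one (Subtype.ext (T.inj ?_))
      rw [Subgroup.coe_pow, show 8 = 2 ^ 2 * 2 by norm_num, pow_mul, map_pow]
      rcases T.le_pm h4 (by omega) hN (h6 x k 2 (congrArg Subtype.val hk) (by omega)) with h | h <;>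
        rw [h] <;> simp
    have := Nat.le_of_dvd (by norm_num) h7
    omega
  rcases e with _ | e
  · simp
  have h3 := (dvd_pow_self s e.succ_ne_zero).trans hd
  have h4 := T.big_of_dvd hs h2 h3
  obtain ⟨h5, h6, h7⟩ := T.half_bound (m := 2) hn h hs (hd.trans (h1 ▸ Dvd.intro _ rfl)) h4
  have h8 : s ≠ 7 := by
    rintro rfl
    obtain ⟨P⟩ : Nonempty (Sylow 7 H) := inferInstance
    have := T.sylow_normal le_rfl P
    refine P.ne_bot_of_dvd_card (h3.trans (Dvd.dvd.trans (h1 ▸ Dvd.intro _ rfl) (T.dvd_card h)))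
      (T.eq_bot_of_big (fun i hi hd => ?_) P.isPGroup')
    have := mt (h4 i hi) (not_not.2 hd)
    omega
  have h9 := hs.two_le
  interval_cases s
  · omega
  · exact (pow_dvd_pow 3 (show _ ≤ 2 by omega)).trans (by norm_num)
  · norm_num at hs
  · rw [h7 (by norm_num)]
    norm_num
  · norm_num at hs
  · omega

end Rk

end Cfsg.R3
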