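import Cfsg.Agent.R3.Cls
import Cfsg.Agent.FT.P.BG4b
import Cfsg.Agent.Blk.ThreeOver

/-! Short orbits of small linear groups. -/

set_option autoImplicit false

namespace Cfsg.R3

open Module Pass

universe u v

theorem comm_of_mul_self {G : Type u} [Group G] {a b : G} (ha : a * a = 1) (hb : b * b = 1)
    (h : a * b * (a * b) = 1) : a * b = b * a := by
  rw [← mul_eq_one_iff_inv_eq.1 h, mul_inv_rev, mul_eq_one_iff_inv_eq.1 ha,
    mul_eq_one_iff_inv_eq.1 hb]

variable {p : ℕ} [hp : Fact p.Prime] {U : Type v} [AddCommGroup U] [Module (ZMod p) U] [Finite U]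
  {K : Type u} [Group K] [Finite K] {σ : Representation (ZMod p) K U}

omit [Finite U] [Finite K] in
theorem mem_stab {v : U} {g : K} : g ∈ stab σ v ↔ σ g v = v := Iff.rfl

omit [Finite U] [Finite K] in
theorem mem_stab_apply {v : U} {g h : K} : h ∈ stab σ (σ g v) ↔ g⁻¹ * h * g ∈ stab σ v := by
  rw [mem_stab, mem_stab, map_mul, map_mul, Module.End.mul_apply, Module.End.mul_apply]
  refine ⟨fun e => by rw [e, σ.inv_self_apply], fun e => ?_⟩
  rw [← σ.self_inv_apply g (σ h _), e]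

omit [Finite U] [Finite K] in
theorem card_stab_apply (v : U) (g : K) : Nat.card (stab σ (σ g v)) = Nat.card (stab σ v) :=
  Nat.card_congr ⟨fun h => ⟨g⁻¹ * h * g, mem_stab_apply.1 h.2⟩,
    fun h => ⟨g * h * g⁻¹, mem_stab_apply.2 (by simp [mul_assoc])⟩,
    fun h => Subtype.ext (by simp [mul_assoc]), fun h => Subtype.ext (by simp [mul_assoc])⟩

/-- the vectors fixed by a subgroup -/
noncomputable abbrev Fx (σ : Representation (ZMod p) K U) (Y : Subgroup K) : Submodule (ZMod p) U :=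
  Representation.invariants (σ.comp Y.subtype)

omit [Finite U] [Finite K] in
theorem mem_fx {Y : Subgroup K} {u : U} : u ∈ Fx σ Y ↔ Y ≤ stab σ u :=
  ⟨fun h y hy => h ⟨y, hy⟩, fun h y => h y.2⟩

omit [Finite U] [Finite K] in
theorem fx_stable {Y : Subgroup K} {g : K} (hg : g ∈ Subgroup.normalizer (Y : Set K)) {u : U}
    (hu : u ∈ Fx σ Y) : σ g u ∈ Fx σ Y :=
  mem_fx.2 fun y hy => mem_stab_apply.2 (mem_fx.1 hu (by
    simpa using (Subgroup.mem_normalizer_iff.1 (inv_mem hg) y).1 hy))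

/-- a non-zero vector with a largest stabilizer -/
def MaxV (σ : Representation (ZMod p) K U) (v : U) : Prop :=
  v ≠ 0 ∧ ∀ u, u ≠ 0 → Nat.card (stab σ u) ≤ Nat.card (stab σ v)

omit [Finite K] in
theorem exists_maxV (σ : Representation (ZMod p) K U) [Nontrivial U] : ∃ v, MaxV σ v := by
  obtain ⟨v, hv, h⟩ := Set.exists_max_image {v : U | v ≠ 0} (fun v => Nat.card (stab σ v))
    (Set.toFinite _) (exists_ne 0)
  exact ⟨v, hv, h⟩

theorem MaxV.apply {v : U} (h : MaxV σ v) (g : K) : MaxV σ (σ g v) :=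
  ⟨apply_ne_zero g h.1, fun u hu => (h.2 u hu).trans (card_stab_apply v g).ge⟩

omit [Finite U] in
theorem MaxV.eq {v u : U} (h : MaxV σ v) (hu : u ≠ 0) (hle : stab σ v ≤ stab σ u) :
    stab σ u = stab σ v := (Subgroup.eq_of_le_of_card_ge hle (h.2 u hu)).symm

omit [Finite K] in
theorem dvd_of_invariants {r : ℕ} [Fact r.Prime] (hK : IsPGroup r K)
    (h : ∀ u, (∀ g, σ g u = u) → u = 0) : r ∣ p ^ finrank (ZMod p) U - 1 := by
  let _ : MulAction K U := MulAction.compHom U σ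
  have h1 := hK.card_modEq_card_fixedPoints U
  rw [show MulAction.fixedPoints K U = {0} from Set.eq_singleton_iff_unique_mem.2
    ⟨fun g => map_zero (σ g), fun u hu => h u hu⟩, card_eq_pow (p := p), Nat.card_unique] at h1
  exact (Nat.modEq_iff_dvd' (Nat.one_le_pow _ _ hp.out.pos)).1 h1.symm

theorem isCyclic_of_free_rep [Nontrivial U] (hc : IsMulCommutative K)
    (h : ∀ a ≠ 1, ∀ v, σ a v = v → v = 0) : IsCyclic K := by
  let _ : MulDistribMulAction K (Multiplicative U) :=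
    { smul g x := .ofAdd (σ g x.toAdd)
      one_smul x := by change Multiplicative.ofAdd (σ 1 x.toAdd) = x; rw [map_one]; rfl
      mul_smul g h x := by change Multiplicative.ofAdd (σ (g * h) x.toAdd) = _; rw [map_mul]; rfl
      smul_mul g x y := congrArg Multiplicative.ofAdd (map_add (σ g) x.toAdd y.toAdd)
      smul_one g := congrArg Multiplicative.ofAdd (map_zero (σ g)) }
  exact isCyclic_of_free_hom (MulDistribMulAction.toMulAut K (Multiplicative U)) hc h

theorem MaxV.exists_index_dvd {v : U} (h : MaxV σ v) [hn : (stab σ v).Normal]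
    (hc : (∀ B : Subgroup (K ⧸ stab σ v), IsMulCommutative B → IsCyclic B) →
      IsCyclic (K ⧸ stab σ v)) : ∃ x : K, (stab σ v).index ∣ orderOf x := by
  have : Nontrivial (Fx σ (stab σ v)) :=
    ⟨⟨v, mem_fx.2 le_rfl⟩, 0, fun e => h.1 (congrArg Subtype.val e)⟩
  obtain ⟨y, hy⟩ := (hc fun B hB => isCyclic_of_free_rep
    (σ := (σ.quotientToInvariants (stab σ v)).comp B.subtype) hB fun ⟨a, ha⟩ ha1 u hu => by
      obtain ⟨a, rfl⟩ := QuotientGroup.mk_surjective a
      by_contra hu0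
      refine ha1 (Subtype.ext ((QuotientGroup.eq_one_iff a).2 ?_))
      rw [← h.eq (fun e => hu0 (Subtype.ext e)) (mem_fx.1 u.2)]
      exact congrArg Subtype.val hu).exists_ofOrder_eq_natCard
  obtain ⟨x, rfl⟩ := QuotientGroup.mk_surjective y
  exact ⟨x, (show (stab σ v).index = _ from hy.symm) ▸ orderOf_map_dvd (QuotientGroup.mk' _) x⟩

theorem exists_index_dvd_of_comm (σ : Representation (ZMod p) K U) [Nontrivial U]
    (hc : ∀ a b : K, a * b = b * a) : ∃ v ≠ 0, ∃ x : K, (stab σ v).index ∣ orderOf x := by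
  obtain ⟨v, hv⟩ := exists_maxV σ
  let _ : CommGroup K := ⟨hc⟩
  exact ⟨v, hv.1, hv.exists_index_dvd fun h => Subgroup.topEquiv.isCyclic.1 (h ⊤ inferInstance)⟩

theorem exists_index_dvd_of_odd (σ : Representation (ZMod p) K U) [Nontrivial U] {r : ℕ}
    [hr : Fact r.Prime] (h2 : r ≠ 2) (hK : IsPGroup r K)
    (hb : ∀ i, 0 < i → r ∣ p ^ i - 1 → finrank (ZMod p) U < 3 * i) :
    ∃ v ≠ 0, ∃ x : K, (stab σ v).index ∣ orderOf x := by
  obtain ⟨v, hv⟩ := exists_maxV σ
  suffices (stab σ v).Normal from ⟨v, hv.1, hv.exists_index_dvd fun h => by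
    by_contra hc
    obtain ⟨S, -, hS⟩ := FT.BG4P.ex_odd_normal_p2Elem (R := ⊤) ((hK.to_quotient _).to_subgroup _) h2
      (mt Subgroup.topEquiv.isCyclic.1 hc)
    exact FT.BG4P.not_cyclic_of_p2Elem ⟨le_rfl, hS.2⟩ (h S hS.2.1.1)⟩
  by_contra hn
  set N := Subgroup.normalizer (stab σ v : Set K) with hN
  have := hK.isNilpotent
  obtain ⟨g, hg, hgN⟩ := SetLike.exists_of_lt (Group.normalizerCondition_of_isNilpotent N
    (lt_top_iff_ne_top.2 fun h => hn (Subgroup.normalizer_eq_top_iff.1 h)))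
  have h1 : ∀ g ∈ Subgroup.normalizer (N : Set K),
      N ≤ Subgroup.normalizer (stab σ (σ g v) : Set K) := fun g hg n hn => by
    have h3 := (Subgroup.mem_normalizer_iff.1 (inv_mem hg) n).1 hn
    refine Subgroup.mem_normalizer_iff.2 fun y => ?_
    rw [mem_stab_apply, mem_stab_apply, Subgroup.mem_normalizer_iff.1 h3]
    exact iff_of_eq (by congr 1; group)
  have h3 : ∀ g ∈ Subgroup.normalizer (N : Set K), stab σ (σ g v) ≤ N := fun g hg y hy => by
    rw [Subgroup.mem_normalizer_iff.1 (inv_mem hg), inv_inv]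
    exact Subgroup.le_normalizer (mem_stab_apply.1 hy)
  have h4 : ∀ a b : K, a⁻¹ * b ∉ N → stab σ (σ a v) ≠ stab σ (σ b v) := fun a b hab e =>
    hab (Subgroup.mem_normalizer_iff.2 fun y => by
      have h5 := SetLike.ext_iff.1 e (b * y * b⁻¹)
      rw [mem_stab_apply, mem_stab_apply] at h5
      convert h5.symm using 2 <;> group)
  have h5 : ∀ a b : K, a⁻¹ * b ∉ N → ∀ u ∈ Fx σ (stab σ (σ a v)), u ∈ Fx σ (stab σ (σ b v)) →
      u = 0 := fun a b hab u ha hb => by
    by_contra hu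
    exact h4 a b hab (((hv.apply a).eq hu (mem_fx.1 ha)).symm.trans
      ((hv.apply b).eq hu (mem_fx.1 hb)))
  have h6 : ∀ a ∈ Subgroup.normalizer (N : Set K), ∀ b ∈ Subgroup.normalizer (N : Set K),
      a⁻¹ * b ∉ N → finrank (ZMod p) U < 3 * finrank (ZMod p) (Fx σ (stab σ (σ a v))) := by
    intro a ha b hb' hab
    have : Nontrivial (Fx σ (stab σ (σ a v))) :=
      ⟨⟨_, mem_fx.2 le_rfl⟩, 0, fun e => (hv.apply a).1 (congrArg Subtype.val e)⟩
    refine hb _ finrank_pos (dvd_of_invariants (σ := Representation.subrepresentation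
      (σ.comp N.subtype) _ fun n u hu => fx_stable (h1 a ha n.2) hu) (hK.to_subgroup N)
      fun u hu => Subtype.ext (h5 a b hab u u.2 (mem_fx.2 fun y hy => ?_)))
    exact congrArg Subtype.val (hu ⟨y, h3 b hb' hy⟩)
  have hg2 : g * g ∉ N := fun h => hgN (by
    obtain ⟨k, hk⟩ := hK g
    obtain ⟨m, hm⟩ := (hr.out.odd_of_ne_two h2).pow (n := k)
    rw [hm, pow_succ, pow_mul, mul_eq_one_iff_inv_eq, sq] at hk
    exact hk ▸ inv_mem (pow_mem h m))
  have e1 : (1 : K)⁻¹ * g ∉ N := by simpa using hgN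
  have e2 : (1 : K)⁻¹ * (g * g) ∉ N := by simpa using hg2
  have e3 : g⁻¹ * (g * g) ∉ N := by simpa using hgN
  have e4 : (g * g)⁻¹ * g ∉ N := by simpa using hgN
  have a1 := h6 1 (one_mem _) g hg e1
  have a2 := h6 g hg _ (mul_mem hg hg) e3
  have a3 := h6 _ (mul_mem hg hg) g hg e4
  have b1 := Submodule.finrank_sup_add_finrank_inf_eq (Fx σ (stab σ (σ 1 v))) (Fx σ (stab σ (σ g v)))
  have b2 := Submodule.finrank_sup_add_finrank_inf_eq
    (Fx σ (stab σ (σ 1 v)) ⊔ Fx σ (stab σ (σ g v))) (Fx σ (stab σ (σ (g * g) v)))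
  rw [(Submodule.eq_bot_iff (_ ⊓ _)).2 fun u hu => h5 _ _ e1 u hu.1 hu.2, finrank_bot] at b1
  rw [(Submodule.eq_bot_iff (_ ⊓ _)).2 fun u hu => ?_, finrank_bot] at b2
  · have b3 := Submodule.finrank_le
      (Fx σ (stab σ (σ 1 v)) ⊔ Fx σ (stab σ (σ g v)) ⊔ Fx σ (stab σ (σ (g * g) v)))
    omega
  obtain ⟨x, hx, y, hy, rfl⟩ := Submodule.mem_sup.1 hu.1
  have h7 : ∀ n ∈ stab σ (σ (g * g) v), σ n x = x ∧ σ n y = y := fun n hn => by
    have h8 : σ n x + σ n y = x + y := (map_add _ _ _).symm.trans (mem_fx.1 hu.2 hn)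
    have h9 := h3 _ (mul_mem hg hg) hn
    have h10 : σ n x - x = 0 := h5 _ _ e1 _ (sub_mem (fx_stable (h1 1 (one_mem _) h9) hx) hx) (by
      rw [show σ n x - x = y - σ n y by rw [sub_eq_sub_iff_add_eq_add, h8, add_comm]]
      exact sub_mem hy (fx_stable (h1 g hg h9) hy))
    rw [sub_eq_zero] at h10
    exact ⟨h10, by rwa [h10, add_right_inj] at h8⟩
  rw [h5 _ _ e2 x hx (mem_fx.2 fun n hn => (h7 n hn).1),
    h5 _ _ e3 y hy (mem_fx.2 fun n hn => (h7 n hn).2), add_zero]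

omit [Finite U] in
theorem pow_dvd_index_sylow {r e : ℕ} [Fact r.Prime] (S : Sylow r K) {v : U}
    (h : r ^ e ∣ (stab σ v).index) : r ^ e ∣ (stab (σ.comp (S : Subgroup K).subtype) v).index := by
  have h1 := Subgroup.relIndex_mul_index (inf_le_left : stab σ v ⊓ S ≤ _)
  rw [← Subgroup.relIndex_mul_index (inf_le_right : stab σ v ⊓ S ≤ _),
    Subgroup.inf_relIndex_right] at h1
  exact (Nat.Coprime.pow_left e ((Nat.Prime.coprime_iff_not_dvd Fact.out).2
    S.not_dvd_index)).dvd_of_dvd_mul_right (h1 ▸ h.mul_left _)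

omit [Finite U] in
theorem exists_orderOf_eq_of_dvd {x : K} {d : ℕ} (h : d ∣ orderOf x) : ∃ y : K, orderOf y = d :=
  ⟨_, orderOf_pow_orderOf_div (orderOf_pos x).ne' h⟩

theorem exists_orderOf_eq_pow (σ : Representation (ZMod p) K U) [Nontrivial U] {r e : ℕ}
    [hr : Fact r.Prime] (h2 : r ≠ 2)
    (hb : ∀ i, 0 < i → r ∣ p ^ i - 1 → finrank (ZMod p) U < 3 * i)
    (h : ∀ v ≠ 0, r ^ e ∣ (stab σ v).index) : ∃ x : K, orderOf x = r ^ e := by
  obtain ⟨S⟩ : Nonempty (Sylow r K) := inferInstance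
  obtain ⟨v, hv, x, hx⟩ := exists_index_dvd_of_odd (σ.comp (S : Subgroup K).subtype) h2
    S.isPGroup' hb
  exact exists_orderOf_eq_of_dvd (x := x.1)
    ((Subgroup.orderOf_coe x).symm ▸ (pow_dvd_index_sylow S (h v hv)).trans hx)

theorem exists_orderOf_eq_four (σ : Representation (ZMod p) K U) [Nontrivial U]
    (h : ∀ v ≠ 0, 4 ∣ (stab σ v).index) : ∃ x : K, orderOf x = 4 := by
  obtain ⟨S⟩ : Nonempty (Sylow 2 K) := inferInstance
  by_contra hc
  have h1 : ∀ x : S, x * x = 1 := fun x => by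
    obtain ⟨k, hk⟩ := IsPGroup.iff_orderOf.1 S.isPGroup' x
    rw [← sq, ← orderOf_dvd_iff_pow_eq_one, hk]
    rcases k with _ | _ | k
    · simp
    · simp
    exact absurd (exists_orderOf_eq_of_dvd (x := x.1) (by
      rw [Subgroup.orderOf_coe, hk]; exact ⟨2 ^ k, by ring⟩)) hc
  obtain ⟨v, hv, x, hx⟩ := exists_index_dvd_of_comm (σ.comp (S : Subgroup K).subtype)
    fun a b => comm_of_mul_self (h1 a) (h1 b) (h1 _)
  exact hc (exists_orderOf_eq_of_dvd (x := x.1)
    ((Subgroup.orderOf_coe x).symm ▸ (pow_dvd_index_sylow (e := 2) S (h v hv)).trans hx))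

theorem dickson_of_finrank {F : Type*} [Field F] {V : Type*} [AddCommGroup V] [Module F V]
    [FiniteDimensional F V] (τ : Representation F K V) (inj : Function.Injective τ)
    (h2 : (2 : F) ≠ 0) (hK : (Nat.card K : F) ≠ 0) (hd : finrank F V ≤ 2) : Dickson K := by
  classical
  rcases hd.eq_or_lt with hd | hd
  · let b := Module.finBasisOfFinrankEq F V hd
    exact dickson_of_mat ((LinearMap.toMatrixAlgEquiv b).toMonoidHom.comp τ)
      ((LinearMap.toMatrixAlgEquiv b).injective.comp inj) h2 hK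
  refine Or.inl ⟨⊤, fun a _ b _ => inj ?_, by simp⟩
  obtain ⟨v, hv⟩ := finrank_le_one_iff.1 (show finrank F V ≤ 1 by omega)
  obtain ⟨c, hc⟩ := hv (τ a v)
  obtain ⟨d, hd⟩ := hv (τ b v)
  ext w
  obtain ⟨e, rfl⟩ := hv w
  simp only [map_mul, Module.End.mul_apply, map_smul, ← hc, ← hd, smul_smul, mul_comm c]

theorem dickson_of_field (inj : Function.Injective σ) (h2 : p ≠ 2) (cop : ¬ p ∣ Nat.card K)
    {R : Subalgebra (ZMod p) (Module.End (ZMod p) U)} (hR : IsField R)
    (hc : ∀ g, ∀ r ∈ R, r * σ g = σ g * r) (hU : Nat.card U < Nat.card R ^ 3) : Dickson K := by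
  have : Finite (Module.End (ZMod p) U) := Finite.of_injective _ DFunLike.coe_injective
  let _ := hR.toField
  let τ : Representation R K U :=
    { toFun g := ⟨(σ g).toAddHom, fun r u => (LinearMap.congr_fun (hc g r r.2) u).symm⟩
      map_one' := by ext u; simp
      map_mul' a b := by ext u; simp }
  have h1 : ∀ n : ℕ, ¬ p ∣ n → (n : R) ≠ 0 := fun n hn h => hn ((ZMod.natCast_eq_zero_iff n p).1
    ((algebraMap (ZMod p) R).injective (by rwa [map_natCast, map_zero])))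
  refine dickson_of_finrank τ (fun a b h => inj (LinearMap.ext fun u => LinearMap.congr_fun h u))
    (h1 2 fun h => h2 ((Nat.prime_dvd_prime_iff_eq hp.out Nat.prime_two).1 h)) (h1 _ cop) ?_
  rw [Module.natCard_eq_pow_finrank (K := R)] at hU
  have := (Nat.pow_lt_pow_iff_right Finite.one_lt_card).1 hU
  omega

end Cfsg.R3
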